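import Groth.Agent.CAlgFlatTor.Basic
import Groth.Agent.FieldExtLD.Algebra
import Mathlib.RingTheory.Filtration
import Mathlib.RingTheory.Ideal.GoingUp

/-!
# Descent of flatness along finite injective maps of Noetherian rings
-/

universe u

open TensorProduct

namespace Groth.Agent.CAlgFinInj

open Groth.Agent

/-- Flatness of the base change passes along algebra maps. -/
theorem flat_map {R : Type u} [CommRing R] {A B : Type u} [CommRing A] [CommRing B] [Algebra R A] [Algebra R B]
    (f : A →ₐ[R] B) (M : Type u) [AddCommGroup M] [Module R M] [Module.Flat A (A ⊗[R] M)] :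
    Module.Flat B (B ⊗[R] M) := by
  letI := f.toRingHom.toAlgebra
  haveI : IsScalarTower R A B := IsScalarTower.of_algebraMap_eq fun r => (f.commutes r).symm
  exact Module.Flat.of_linearEquiv (TensorProduct.AlgebraTensorModule.cancelBaseChange R A B B M).symm

/-- Base change in a tower. -/
theorem flat_tower_iff {R : Type u} [CommRing R] (A B : Type u) [CommRing A] [CommRing B] [Algebra R A] [Algebra R B]
    [Algebra A B] [IsScalarTower R A B] (M : Type u) [AddCommGroup M] [Module R M] :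
    Module.Flat B (B ⊗[A] (A ⊗[R] M)) ↔ Module.Flat B (B ⊗[R] M) :=
  Module.Flat.equiv_iff (TensorProduct.AlgebraTensorModule.cancelBaseChange R A B B M)

variable {R : Type u} [CommRing R] (M : Type u) [AddCommGroup M] [Module R M]

/-- Ideals of `A` stay inside after tensoring with a module which is flat after base change to `A`. -/
theorem injective_rTensor_ideal (A : Type u) [CommRing A] [Algebra R A] [Module.Flat A (A ⊗[R] M)] (J : Ideal A) :
    Function.Injective ((J.subtype.restrictScalars R).rTensor M) := by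
  have hA := (Module.Flat.iff_rTensor_injective' (R := A) (M := A ⊗[R] M)).1 inferInstance J
  let e₁ := TensorProduct.AlgebraTensorModule.cancelBaseChange R A A J M
  let e₂ := TensorProduct.AlgebraTensorModule.cancelBaseChange R A A A M
  have hsq : ∀ w, (J.subtype.restrictScalars R).rTensor M (e₁ w) = e₂ (J.subtype.rTensor (A ⊗[R] M) w) := by
    intro w
    induction w using TensorProduct.induction_on with
    | zero => simp
    | add a c ha hc => simp only [map_add, ha, hc]
    | tmul x t =>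
      induction t using TensorProduct.induction_on with
      | zero => simp
      | add a c ha hc => simp only [TensorProduct.tmul_add, map_add, ha, hc]
      | tmul a m => simp [e₁, e₂]
  intro x y hxy
  obtain ⟨x', rfl⟩ := e₁.surjective x
  obtain ⟨y', rfl⟩ := e₁.surjective y
  exact congrArg e₁ (hA (e₂.injective ((hsq x').symm.trans (hxy.trans (hsq y')))))

/-- Flatness modulo two ideals with zero intersection. -/
theorem flat_of_inf_eq_bot {I₁ I₂ : Ideal R} (h : I₁ ⊓ I₂ = ⊥)
    (h₁ : Module.Flat (R ⧸ I₁) ((R ⧸ I₁) ⊗[R] M)) (h₂ : Module.Flat (R ⧸ I₂) ((R ⧸ I₂) ⊗[R] M)) :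
    Module.Flat R M := by
  rw [Module.Flat.iff_rTensor_injective']
  intro J
  refine (injective_iff_map_eq_zero _).2 fun z hz => ?_
  -- the image in `(J mod I₁) ⊗ M`
  let q₁ : R →ₗ[R] R ⧸ I₁ := (Ideal.Quotient.mkₐ R I₁).toLinearMap
  let J₁ : Ideal (R ⧸ I₁) := J.map (Ideal.Quotient.mk I₁)
  let p : J →ₗ[R] J₁.restrictScalars R :=
    LinearMap.codRestrict (J₁.restrictScalars R) (q₁ ∘ₗ J.subtype) fun j => Ideal.mem_map_of_mem _ j.2
  have hp : Function.Surjective p := by
    rintro ⟨y, hy⟩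
    obtain ⟨x, hx, rfl⟩ := (Ideal.mem_map_iff_of_surjective _ Ideal.Quotient.mk_surjective).1 hy
    exact ⟨⟨x, hx⟩, rfl⟩
  let K₁ : Submodule R R := (J ⊓ I₁ : Ideal R)
  let ι : K₁ →ₗ[R] J := Submodule.inclusion (show K₁ ≤ J from inf_le_left)
  have hex : Function.Exact ι p := by
    intro j
    constructor
    · intro hj
      have : Ideal.Quotient.mk I₁ j.1 = 0 := congrArg Subtype.val hj
      exact ⟨⟨j.1, j.2, Ideal.Quotient.eq_zero_iff_mem.1 this⟩, rfl⟩
    · rintro ⟨k, rfl⟩
      exact Subtype.ext (Ideal.Quotient.eq_zero_iff_mem.2 k.2.2)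
  -- flatness modulo `I₁`
  have hinj₁ : Function.Injective (((J₁.restrictScalars R).subtype).rTensor M) := by
    haveI := h₁
    exact injective_rTensor_ideal M (R ⧸ I₁) J₁
  have hpz : p.rTensor M z = 0 := by
    apply hinj₁
    rw [map_zero, ← LinearMap.comp_apply, ← LinearMap.rTensor_comp,
      show (J₁.restrictScalars R).subtype ∘ₗ p = q₁ ∘ₗ J.subtype from rfl, LinearMap.rTensor_comp,
      LinearMap.comp_apply, hz, map_zero]
  obtain ⟨w, rfl⟩ := ((rTensor_exact M hex hp) z).1 hpz
  -- `J ⊓ I₁` embeds in `R / I₂`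
  let q₂ : R →ₗ[R] R ⧸ I₂ := (Ideal.Quotient.mkₐ R I₂).toLinearMap
  let r : K₁ →ₗ[R] R ⧸ I₂ := q₂ ∘ₗ K₁.subtype
  have hr : Function.Injective r := by
    refine (injective_iff_map_eq_zero _).2 fun k hk => Subtype.ext ?_
    have : k.1 ∈ I₁ ⊓ I₂ := ⟨k.2.2, Ideal.Quotient.eq_zero_iff_mem.1 hk⟩
    rw [h] at this
    exact this
  let K₂ : Ideal (R ⧸ I₂) := (J ⊓ I₁).map (Ideal.Quotient.mk I₂)
  let r' : K₁ ≃ₗ[R] K₂.restrictScalars R :=
    LinearEquiv.ofBijective (LinearMap.codRestrict (K₂.restrictScalars R) r fun k => Ideal.mem_map_of_mem _ k.2)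
      ⟨fun a b hab => hr (congrArg Subtype.val hab), by
        rintro ⟨y, hy⟩
        obtain ⟨x, hx, rfl⟩ := (Ideal.mem_map_iff_of_surjective _ Ideal.Quotient.mk_surjective).1 hy
        exact ⟨⟨x, hx⟩, rfl⟩⟩
  have hinj₂ : Function.Injective (((K₂.restrictScalars R).subtype).rTensor M) := by
    haveI := h₂
    exact injective_rTensor_ideal M (R ⧸ I₂) K₂
  have hw : r.rTensor M w = 0 := by
    rw [show r = q₂ ∘ₗ (J.subtype ∘ₗ ι) from rfl, LinearMap.rTensor_comp, LinearMap.comp_apply,
      LinearMap.rTensor_comp, LinearMap.comp_apply, hz, map_zero]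
  have hw' : r'.toLinearMap.rTensor M w = 0 := by
    apply hinj₂
    rw [map_zero, ← LinearMap.comp_apply, ← LinearMap.rTensor_comp]
    exact hw
  have : w = 0 := by
    apply (LinearEquiv.rTensor M r').injective
    rw [map_zero]
    exact hw'
  rw [this, map_zero]

/-- Artin–Rees: flatness modulo `K` and over a finite injective algebra gives flatness modulo
any ideal containing a power of `K`. -/
theorem flat_of_pow_le [IsNoetherianRing R] (S : Type u) [CommRing S] [Algebra R S] [Module.Finite R S]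
    (hinj : Function.Injective (algebraMap R S)) [Module.Flat S (S ⊗[R] M)] {K I : Ideal R} {m : ℕ}
    (hm : K ^ m ≤ I) (hK : Module.Flat (R ⧸ K) ((R ⧸ K) ⊗[R] M)) :
    Module.Flat (R ⧸ I) ((R ⧸ I) ⊗[R] M) := by
  have hind : ∀ k : ℕ, ∃ J : Ideal R, J ≤ ((K ^ (2 ^ k)).map (algebraMap R S)).comap (algebraMap R S) ∧
      Module.Flat (R ⧸ J) ((R ⧸ J) ⊗[R] M) := by
    intro k
    induction k with
    | zero => exact ⟨K, by rw [pow_zero, pow_one]; exact Ideal.le_comap_map, hK⟩
    | succ k ih =>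
      obtain ⟨J, hJ, hflat⟩ := ih
      refine ⟨_, ?_, CAlgFlatTor.flat_mod_comap_sq S J M⟩
      refine Ideal.comap_mono ?_
      rw [pow_succ 2 k, pow_mul, Ideal.map_pow, Ideal.map_pow _ (K ^ (2 ^ k))]
      exact Ideal.pow_right_mono (Ideal.map_le_iff_le_comap.2 hJ) 2
  let N : Submodule R S := LinearMap.range (Algebra.linearMap R S)
  obtain ⟨c, hc⟩ := Ideal.exists_pow_inf_eq_pow_smul K N
  obtain ⟨J, hJ, hflat⟩ := hind (c + m)
  have hJI : J ≤ I := by
    intro x hx
    have h1 : algebraMap R S x ∈ K ^ (2 ^ (c + m)) • (⊤ : Submodule R S) ⊓ N := by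
      refine ⟨?_, x, rfl⟩
      rw [Ideal.smul_top_eq_map]
      exact hJ hx
    rw [hc _ (le_trans (Nat.le_add_right c m) Nat.lt_two_pow_self.le)] at h1
    have h2 : algebraMap R S x ∈ Submodule.map (Algebra.linearMap R S) (K ^ m) := by
      have h3 : K ^ (2 ^ (c + m) - c) • (K ^ c • (⊤ : Submodule R S) ⊓ N) ≤ K ^ m • N :=
        Submodule.smul_mono (Ideal.pow_le_pow_right (by
          have := (Nat.lt_two_pow_self (n := c + m)).le; omega)) inf_le_right
      have h4 := h3 h1
      rw [show N = Submodule.map (Algebra.linearMap R S) ⊤ from (Submodule.map_top _).symm,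
        ← Submodule.map_smul''] at h4
      simpa using h4
    obtain ⟨y, hy, hxy⟩ := h2
    rw [← hinj hxy]
    exact hm hy
  haveI := hflat
  exact flat_map (Ideal.Quotient.factorₐ R hJI) M

/-- A finite algebra containing a domain admits a functional nonvanishing on `1`. -/
theorem exists_functional [IsDomain R] (S : Type u) [CommRing S] [IsDomain S] [Algebra R S] [Module.Finite R S]
    (hinj : Function.Injective (algebraMap R S)) : ∃ φ : S →ₗ[R] R, φ 1 ≠ 0 := by
  haveI : Module.IsTorsionFree R S := by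
    rw [Module.isTorsionFree_iff_smul_eq_zero]
    intro r s hrs
    rw [Algebra.smul_def, mul_eq_zero] at hrs
    exact hrs.imp (fun h => hinj (h.trans (map_zero _).symm)) id
  obtain ⟨m, ψ, hψ⟩ := FieldExtLD.exists_injective_toPi (R := R) (M := S)
  obtain ⟨i, hi⟩ : ∃ i, ψ 1 i ≠ 0 := by
    by_contra! h
    exact one_ne_zero (hψ ((funext h).trans (map_zero ψ).symm))
  exact ⟨(LinearMap.proj i).comp ψ, hi⟩

omit [AddCommGroup M] [Module R M] in
theorem retraction_smul (M : Type u) [AddCommGroup M] [Module R M] (S : Type u) [CommRing S] [Algebra R S]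
    (φ : S →ₗ[R] R) (x : M) : TensorProduct.lid R M (φ.rTensor M ((1 : S) ⊗ₜ x)) = φ 1 • x := by simp

/-- Torsion-freeness from flatness after a finite extension of a domain. -/
theorem isTorsionFree_of_finite [IsDomain R] (S : Type u) [CommRing S] [IsDomain S] [Algebra R S]
    [Module.Finite R S] (hinj : Function.Injective (algebraMap R S)) [Module.Flat S (S ⊗[R] M)]
    (hmod : ∀ I : Ideal R, I ≠ ⊥ → Module.Flat (R ⧸ I) ((R ⧸ I) ⊗[R] M))
    {a : R} (ha : a ≠ 0) {x : M} (hx : a • x = 0) : x = 0 := by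
  obtain ⟨φ, hφ⟩ := exists_functional S hinj
  set c := φ 1 with hc
  have hkill : ∀ (b : R) (y : M), b ≠ 0 → b • y = 0 → c • y = 0 := by
    intro b y hb hby
    have h1 : algebraMap R S b • ((1 : S) ⊗ₜ[R] y) = 0 := by
      rw [algebraMap_smul, ← tmul_smul, hby, tmul_zero]
    have hreg : IsSMulRegular (S ⊗[R] M) (algebraMap R S b) :=
      Module.Flat.isSMulRegular_of_isRegular (IsRegular.of_ne_zero fun e => hb (hinj (e.trans (map_zero _).symm)))
    have h2 : (1 : S) ⊗ₜ[R] y = 0 := hreg.right_eq_zero_of_smul h1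
    rw [← retraction_smul M S φ y, h2, map_zero, map_zero]
  have h1 := hkill a x ha hx
  -- `x ∈ cM`
  have hc2 : c ^ 2 ≠ 0 := pow_ne_zero 2 hφ
  let A := R ⧸ Ideal.span {c ^ 2}
  haveI : Module.Flat A (A ⊗[R] M) := hmod _ (by simpa [Ideal.span_singleton_eq_bot] using hc2)
  let m : A →ₗ[A] A := LinearMap.mulLeft A (Ideal.Quotient.mk _ c)
  have hex : Function.Exact m m := by
    intro z
    obtain ⟨z, rfl⟩ := Ideal.Quotient.mk_surjective z
    constructor
    · intro hz
      rw [LinearMap.mulLeft_apply, ← map_mul, Ideal.Quotient.eq_zero_iff_mem, Ideal.mem_span_singleton] at hz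
      obtain ⟨w, hw⟩ := hz
      refine ⟨Ideal.Quotient.mk _ w, ?_⟩
      rw [LinearMap.mulLeft_apply, ← map_mul]
      congr 1
      exact mul_left_cancel₀ hφ (by linear_combination -hw)
    · rintro ⟨w, hw⟩
      rw [← hw, LinearMap.mulLeft_apply, LinearMap.mulLeft_apply, ← mul_assoc, ← map_mul, ← pow_two,
        Ideal.Quotient.eq_zero_iff_mem.2 (Ideal.mem_span_singleton_self _), zero_mul]
  have hexM := Module.Flat.rTensor_exact (A ⊗[R] M) hex
  have hlid : ∀ w : A ⊗[A] (A ⊗[R] M), TensorProduct.lid A _ (m.rTensor (A ⊗[R] M) w) = c • TensorProduct.lid A _ w := by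
    intro w
    induction w using TensorProduct.induction_on with
    | zero => simp
    | add a b ha hb => simp only [map_add, ha, hb, smul_add]
    | tmul z t =>
      rw [LinearMap.rTensor_tmul, TensorProduct.lid_tmul, TensorProduct.lid_tmul, LinearMap.mulLeft_apply,
        mul_smul, ← Ideal.Quotient.algebraMap_eq, algebraMap_smul]
  obtain ⟨w, hw⟩ := (hexM ((1 : A) ⊗ₜ[A] ((1 : A) ⊗ₜ[R] x))).1 (by
    apply (TensorProduct.lid A (A ⊗[R] M)).injective
    rw [hlid, TensorProduct.lid_tmul, one_smul, map_zero, ← tmul_smul, h1, tmul_zero])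
  have hw' := congrArg (TensorProduct.lid A (A ⊗[R] M)) hw
  rw [hlid, TensorProduct.lid_tmul, one_smul] at hw'
  obtain ⟨y, hy⟩ := TensorProduct.mk_surjective R M A Ideal.Quotient.mk_surjective (TensorProduct.lid A _ w)
  rw [← hy, TensorProduct.mk_apply, ← tmul_smul] at hw'
  -- `x - c • y ∈ c² M`
  have hker : x - c • y ∈ Ideal.span {c ^ 2} • (⊤ : Submodule R M) := by
    rw [← Submodule.Quotient.mk_eq_zero, ← (TensorProduct.quotTensorEquivQuotSMul M _).symm.map_eq_zero_iff,
      TensorProduct.quotTensorEquivQuotSMul_symm_mk, tmul_sub, hw', sub_self]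
  rw [Submodule.ideal_span_singleton_smul] at hker
  obtain ⟨z, -, hz⟩ := Submodule.mem_smul_pointwise_iff_exists _ _ _ |>.1 hker
  have hxv : x = c • (y + c • z) := by
    rw [pow_two, mul_smul] at hz
    rw [smul_add, hz]; abel
  rw [hxv]
  refine hkill (c * c) _ (mul_ne_zero hφ hφ) ?_
  rw [mul_smul, ← hxv, h1]

/-- Flatness over a domain from flatness after a finite extension and modulo nonzero ideals. -/
theorem flat_of_domain [IsDomain R] (S : Type u) [CommRing S] [IsDomain S] [Algebra R S]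
    [Module.Finite R S] (hinj : Function.Injective (algebraMap R S)) [Module.Flat S (S ⊗[R] M)]
    (hmod : ∀ I : Ideal R, I ≠ ⊥ → Module.Flat (R ⧸ I) ((R ⧸ I) ⊗[R] M)) : Module.Flat R M := by
  rw [Module.Flat.iff_rTensor_injective']
  intro J
  refine (injective_iff_map_eq_zero _).2 fun z hz => ?_
  rcases eq_or_ne J ⊥ with rfl | hJ
  · exact Subsingleton.elim z 0
  obtain ⟨a, haJ, ha⟩ := Submodule.exists_mem_ne_zero_of_ne_bot hJ
  let I := Ideal.span {a}
  have hIJ : I ≤ J := (Ideal.span_singleton_le_iff_mem _).2 haJ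
  let A := R ⧸ I
  haveI : Module.Flat A (A ⊗[R] M) := hmod I (by simpa [I, Ideal.span_singleton_eq_bot] using ha)
  let J₁ : Ideal A := J.map (Ideal.Quotient.mk I)
  let p : J →ₗ[R] J₁.restrictScalars R :=
    LinearMap.codRestrict (J₁.restrictScalars R) ((Ideal.Quotient.mkₐ R I).toLinearMap ∘ₗ J.subtype)
      fun j => Ideal.mem_map_of_mem _ j.2
  have hp : Function.Surjective p := by
    rintro ⟨y, hy⟩
    obtain ⟨x, hx, rfl⟩ := (Ideal.mem_map_iff_of_surjective _ Ideal.Quotient.mk_surjective).1 hy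
    exact ⟨⟨x, hx⟩, rfl⟩
  let ι : R →ₗ[R] J := (LinearMap.id : R →ₗ[R] R).smulRight (⟨a, haJ⟩ : J)
  have hex : Function.Exact ι p := by
    intro j
    constructor
    · intro hj
      have : Ideal.Quotient.mk I j.1 = 0 := congrArg Subtype.val hj
      obtain ⟨b, hb⟩ := Ideal.mem_span_singleton'.1 (Ideal.Quotient.eq_zero_iff_mem.1 this)
      exact ⟨b, Subtype.ext hb⟩
    · rintro ⟨k, rfl⟩
      exact Subtype.ext (Ideal.Quotient.eq_zero_iff_mem.2 (Ideal.mem_span_singleton'.2 ⟨k, rfl⟩))
  have hinj₁ : Function.Injective (((J₁.restrictScalars R).subtype).rTensor M) := by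
    exact injective_rTensor_ideal M A J₁
  have hpz : p.rTensor M z = 0 := by
    apply hinj₁
    rw [map_zero, ← LinearMap.comp_apply, ← LinearMap.rTensor_comp,
      show (J₁.restrictScalars R).subtype ∘ₗ p = (Ideal.Quotient.mkₐ R I).toLinearMap ∘ₗ J.subtype from rfl,
      LinearMap.rTensor_comp, LinearMap.comp_apply, hz, map_zero]
  obtain ⟨w, rfl⟩ := ((rTensor_exact M hex hp) z).1 hpz
  have h2 : a • TensorProduct.lid R M w = 0 := by
    have h3 := congrArg (TensorProduct.lid R M) hz
    rw [map_zero] at h3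
    rw [← h3]
    clear hz h3 hpz
    induction w using TensorProduct.induction_on with
    | zero => simp
    | add a b ha hb => simp only [map_add, smul_add, ha, hb]
    | tmul r m => simp [ι, smul_smul, mul_comm]
  have hw : w = 0 := by
    apply (TensorProduct.lid R M).injective
    rw [map_zero]
    exact isTorsionFree_of_finite M S hinj hmod ha h2
  rw [hw, map_zero]

/-- Descent of flatness along a finite injective map. -/
theorem flat_of_finite_injective [IsNoetherianRing R] (S : Type u) [CommRing S] [Algebra R S] [Module.Finite R S]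
    (hinj : Function.Injective (algebraMap R S)) [Module.Flat S (S ⊗[R] M)] : Module.Flat R M := by
  suffices ∀ I : Ideal R, Module.Flat (R ⧸ I) ((R ⧸ I) ⊗[R] M) from
    flat_of_inf_eq_bot M (I₁ := ⊥) (I₂ := ⊥) (inf_idem _) (this ⊥) (this ⊥)
  intro I
  induction I using WellFoundedGT.induction with
  | _ I ih =>
    by_cases htop : I = ⊤
    · subst htop
      haveI : Subsingleton (R ⧸ (⊤ : Ideal R)) := Ideal.Quotient.subsingleton_iff.2 rfl
      infer_instance
    by_cases hrad : I.radical ≤ I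
    swap
    · obtain ⟨n, hn⟩ := Ideal.exists_radical_pow_le_of_fg I (IsNoetherian.noetherian _)
      exact flat_of_pow_le M S hinj hn (ih _ (lt_of_le_not_ge Ideal.le_radical hrad))
    by_cases hp : I.IsPrime
    · haveI := hp
      obtain ⟨Q, hQ, hQI⟩ : ∃ Q : Ideal S, Q.IsPrime ∧ Q.comap (algebraMap R S) = I := by
        obtain ⟨Q, -, hQ, hQI⟩ := Ideal.exists_ideal_over_prime_of_isIntegral I (⊥ : Ideal S) (by
          intro r hr
          rw [Ideal.mem_comap, Ideal.mem_bot] at hr
          rw [hinj (hr.trans (map_zero _).symm)]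
          exact I.zero_mem)
        exact ⟨Q, hQ, hQI⟩
      let f : R ⧸ I →+* S ⧸ Q := Ideal.quotientMap Q (algebraMap R S) hQI.ge
      letI := f.toAlgebra
      haveI : IsScalarTower R (R ⧸ I) (S ⧸ Q) := IsScalarTower.of_algebraMap_eq fun r => rfl
      haveI : Module.Finite (R ⧸ I) (S ⧸ Q) := Module.Finite.of_restrictScalars_finite R _ _
      have hfinj : Function.Injective (algebraMap (R ⧸ I) (S ⧸ Q)) :=
        Ideal.quotientMap_injective' hQI.le
      haveI : Module.Flat (S ⧸ Q) ((S ⧸ Q) ⊗[R] M) := flat_map (IsScalarTower.toAlgHom R S (S ⧸ Q)) M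
      haveI : Module.Flat (S ⧸ Q) ((S ⧸ Q) ⊗[R ⧸ I] ((R ⧸ I) ⊗[R] M)) := (flat_tower_iff _ _ M).2 ‹_›
      refine flat_of_domain ((R ⧸ I) ⊗[R] M) (S ⧸ Q) hfinj fun J hJ => ?_
      rw [flat_tower_iff]
      have hlt : I < J.comap (Ideal.Quotient.mk I) := by
        refine lt_of_le_of_ne (fun x hx => ?_) fun e => hJ ?_
        · rw [Ideal.mem_comap, Ideal.Quotient.eq_zero_iff_mem.2 hx]; exact J.zero_mem
        · rw [← Ideal.map_comap_of_surjective _ Ideal.Quotient.mk_surjective J, ← e, Ideal.map_quotient_self]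
      haveI := ih _ hlt
      exact flat_map (Ideal.Quotient.liftₐ (J.comap (Ideal.Quotient.mk I))
        (IsScalarTower.toAlgHom R R ((R ⧸ I) ⧸ J)) fun x hx => Ideal.Quotient.eq_zero_iff_mem.2 hx) M
    · obtain ⟨a, ha, b, hb, hab⟩ : ∃ a, a ∉ I ∧ ∃ b, b ∉ I ∧ a * b ∈ I := by
        by_contra! h
        exact hp ⟨htop, fun {a b} hab => or_iff_not_imp_left.2 fun ha => by_contra fun hb => h a ha b hb hab⟩
      let I₁ := I ⊔ Ideal.span {a}
      let I₂ := Submodule.comap (LinearMap.mulLeft R a) I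
      have hI₂ : I ≤ I₂ := fun x hx => I.mul_mem_left a hx
      have hinf : I₁ ⊓ I₂ ≤ I := fun y ⟨hy₁, hy₂⟩ => hrad ⟨2, by
        obtain ⟨i, hi, t, ht, rfl⟩ := Submodule.mem_sup.1 hy₁
        obtain ⟨r, rfl⟩ := Ideal.mem_span_singleton'.1 ht
        have : (i + r * a) ^ 2 = i * (i + r * a) + r * (a * (i + r * a)) := by ring
        rw [this]
        exact add_mem (I.mul_mem_right _ hi) (I.mul_mem_left _ hy₂)⟩
      have h1 := ih I₁ (lt_of_le_of_ne le_sup_left fun e => ha (e ▸ Ideal.mem_sup_right (Ideal.mem_span_singleton_self a)))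
      have h2 := ih I₂ (lt_of_le_of_ne hI₂ fun e => hb (e ▸ hab))
      let A := R ⧸ I
      have key : ∀ {J : Ideal R}, I ≤ J → Module.Flat (R ⧸ J) ((R ⧸ J) ⊗[R] M) →
          Module.Flat (A ⧸ J.map (Ideal.Quotient.mk I)) ((A ⧸ J.map (Ideal.Quotient.mk I)) ⊗[A] (A ⊗[R] M)) :=
        fun {J} _ hJ => by
          rw [flat_tower_iff]
          haveI := hJ
          exact flat_map (Ideal.Quotient.liftₐ J (IsScalarTower.toAlgHom R R (A ⧸ J.map (Ideal.Quotient.mk I))) fun x hx =>
            Ideal.Quotient.eq_zero_iff_mem.2 (Ideal.mem_map_of_mem _ hx)) M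
      refine flat_of_inf_eq_bot (A ⊗[R] M) ?_ (key le_sup_left h1) (key hI₂ h2)
      rw [eq_bot_iff]
      intro x hx
      obtain ⟨x, rfl⟩ := Ideal.Quotient.mk_surjective x
      rw [Ideal.mem_bot, Ideal.Quotient.eq_zero_iff_mem]
      refine hinf ⟨?_, ?_⟩
      · have : Ideal.Quotient.mk I x ∈ Ideal.map (Ideal.Quotient.mk I) I₁ := hx.1
        rwa [← Ideal.mem_comap, Ideal.comap_map_of_surjective _ Ideal.Quotient.mk_surjective,
          ← RingHom.ker_eq_comap_bot, Ideal.mk_ker, sup_eq_left.2 le_sup_left] at this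
      · have : Ideal.Quotient.mk I x ∈ Ideal.map (Ideal.Quotient.mk I) I₂ := hx.2
        rwa [← Ideal.mem_comap, Ideal.comap_map_of_surjective _ Ideal.Quotient.mk_surjective,
          ← RingHom.ker_eq_comap_bot, Ideal.mk_ker, sup_eq_left.2 hI₂] at this

end Groth.Agent.CAlgFinInj
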