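import Groth.Agent.CAlgFinInj.Flat
import Mathlib.RingTheory.Flat.EquationalCriterion
import Mathlib.Algebra.Module.Projective

/-!
# Descent of projectivity along finite injective maps of Noetherian rings
-/

universe u

open TensorProduct

namespace Groth.Agent.CAlgFinInj

variable {R : Type u} [CommRing R] (P : Type u) [AddCommGroup P] [Module R P]

/-- Maps out of `P` lift along surjections whose kernel is killed by `I`. -/
def Lift (I : Ideal R) : Prop :=
  ∀ (E E'' : Type u) [AddCommGroup E] [Module R E] [AddCommGroup E''] [Module R E''] (q : E →ₗ[R] E''),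
    Function.Surjective q → (∀ a, q a = 0 → ∀ r ∈ I, r • a = 0) →
      ∀ f : P →ₗ[R] E'', ∃ l : P →ₗ[R] E, q ∘ₗ l = f

theorem Lift.mono {I J : Ideal R} (h : Lift P I) (hIJ : I ≤ J) : Lift P J :=
  fun E E'' _ _ _ _ q hq hk f => h E E'' q hq (fun a ha r hr => hk a ha r (hIJ hr)) f

theorem Lift.mul {I₁ I₂ : Ideal R} (h₁ : Lift P I₁) (h₂ : Lift P I₂) : Lift P (I₁ * I₂) := by
  intro E E'' _ _ _ _ q hq hk f
  let A' : Submodule R E := I₂ • LinearMap.ker q
  have hA' : A' ≤ LinearMap.ker q := Submodule.smul_le_right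
  let q₂ : E ⧸ A' →ₗ[R] E'' := A'.liftQ q hA'
  obtain ⟨l₂, hl₂⟩ := h₂ (E ⧸ A') E'' q₂ (fun y => ⟨A'.mkQ (hq y).choose, (hq y).choose_spec⟩) (by
    intro a ha r hr
    obtain ⟨a, rfl⟩ := A'.mkQ_surjective a
    rw [← map_smul, Submodule.mkQ_apply, Submodule.Quotient.mk_eq_zero]
    exact Submodule.smul_mem_smul hr ha) f
  obtain ⟨l, hl⟩ := h₁ E (E ⧸ A') A'.mkQ A'.mkQ_surjective (by
    intro a ha r hr
    rw [Submodule.mkQ_apply, Submodule.Quotient.mk_eq_zero] at ha
    induction ha using Submodule.smul_induction_on' with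
    | smul s hs b hb => rw [smul_smul]; exact hk b hb _ (Ideal.mul_mem_mul hr hs)
    | add x _ y _ hx hy => rw [smul_add, hx, hy, add_zero]) l₂
  refine ⟨l, ?_⟩
  rw [← hl₂, ← hl, ← LinearMap.comp_assoc]
  rfl

theorem Lift.top : Lift P (⊤ : Ideal R) := by
  intro E E'' _ _ _ _ q hq hk f
  have hinj : Function.Injective q := (injective_iff_map_eq_zero q).2 fun a ha => by
    simpa using hk a ha 1 trivial
  exact ⟨(LinearEquiv.ofBijective q ⟨hinj, hq⟩).symm.toLinearMap ∘ₗ f,
    LinearMap.ext fun x => (LinearEquiv.ofBijective q ⟨hinj, hq⟩).apply_symm_apply (f x)⟩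

theorem Lift.projective (h : Lift P (⊥ : Ideal R)) : Module.Projective R P :=
  Module.Projective.of_lifting_property fun {M} {N} _ _ _ _ f g hf =>
    h M N f hf (fun a _ r hr => by rw [Ideal.mem_bot.1 hr, zero_smul]) g

/-- A flat module whose reduction modulo `I` is projective has the lifting property for `I`. -/
theorem lift_of_projective [Module.Flat R P] (I : Ideal R) [Module.Projective (R ⧸ I) ((R ⧸ I) ⊗[R] P)] :
    Lift P I := by
  intro E E'' _ _ _ _ q hq hk f
  let W : Submodule R (E × P) :=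
    LinearMap.ker (q ∘ₗ LinearMap.fst R E P - f ∘ₗ LinearMap.snd R E P)
  have hW : ∀ w : E × P, w ∈ W ↔ q w.1 = f w.2 := fun w => by simp [W, sub_eq_zero]
  let π : W →ₗ[R] P := LinearMap.snd R E P ∘ₗ W.subtype
  have hπ : Function.Surjective π := fun x => by
    obtain ⟨e, he⟩ := hq (f x)
    exact ⟨⟨(e, x), (hW _).2 he⟩, rfl⟩
  have hkill : ∀ w : W, π w = 0 → ∀ r ∈ I, r • w = 0 := by
    intro w hw r hr
    have h1 : w.1.2 = 0 := hw
    have h2 : q w.1.1 = 0 := by rw [(hW _).1 w.2, h1, map_zero]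
    exact Subtype.ext (Prod.ext (hk _ h2 r hr) (by simp [h1]))
  have hinj : ∀ w : W, w ∈ I • (⊤ : Submodule R W) → π w = 0 → w = 0 := by
    intro w hw hw0
    obtain ⟨k, r, v, hr, rfl⟩ : ∃ (k : ℕ) (r : Fin k → R) (v : Fin k → W), (∀ i, r i ∈ I) ∧ ∑ i, r i • v i = w := by
      clear hw0
      induction hw using Submodule.smul_induction_on' with
      | smul s hs b _ => exact ⟨1, fun _ => s, fun _ => b, fun _ => hs, by simp⟩
      | add x _ y _ hx hy =>
        obtain ⟨k, r, v, hr, rfl⟩ := hx
        obtain ⟨k', r', v', hr', rfl⟩ := hy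
        refine ⟨k + k', Fin.append r r', Fin.append v v', fun i => ?_, ?_⟩
        · refine Fin.addCases (fun i => ?_) (fun i => ?_) i
          · rw [Fin.append_left]; exact hr i
          · rw [Fin.append_right]; exact hr' i
        · simp [Fin.sum_univ_add]
    have hrel : ∑ i, r i • π (v i) = 0 := by rw [← hw0, map_sum]; simp
    obtain ⟨m, a, y, hxy, hay⟩ := Module.Flat.isTrivialRelation_of_sum_smul_eq_zero hrel
    choose u hu using fun j => hπ (y j)
    have h1 : ∀ i, r i • v i = r i • ∑ j, a i j • u j := fun i => by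
      refine sub_eq_zero.1 ((smul_sub (r i) (v i) (∑ j, a i j • u j)).symm.trans ?_)
      refine hkill _ ?_ _ (hr i)
      rw [map_sub, map_sum, show π (v i) = _ from hxy i]
      simp [hu]
    rw [Finset.sum_congr rfl fun i _ => h1 i]
    simp only [Finset.smul_sum, smul_smul]
    rw [Finset.sum_comm]
    refine Finset.sum_eq_zero fun j _ => ?_
    rw [← Finset.sum_smul, hay j, zero_smul]
  let Wb := W ⧸ I • (⊤ : Submodule R W)
  let π' : Wb →ₗ[R] (R ⧸ I) ⊗[R] P :=
    (I • (⊤ : Submodule R W)).liftQ ((TensorProduct.mk R (R ⧸ I) P 1) ∘ₗ π) (by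
      rw [Submodule.smul_le]
      intro r hr w _
      rw [LinearMap.mem_ker, map_smul, LinearMap.comp_apply, TensorProduct.mk_apply, smul_tmul',
        ← Algebra.algebraMap_eq_smul_one, Ideal.Quotient.algebraMap_eq, Ideal.Quotient.eq_zero_iff_mem.2 hr,
        zero_tmul])
  let π'' : Wb →ₗ[R ⧸ I] (R ⧸ I) ⊗[R] P := LinearMap.extendScalarsOfSurjective Ideal.Quotient.mk_surjective π'
  have hπ'' : Function.Surjective π'' := fun z => by
    obtain ⟨x, rfl⟩ := TensorProduct.mk_surjective R P (R ⧸ I) Ideal.Quotient.mk_surjective z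
    obtain ⟨w, rfl⟩ := hπ x
    exact ⟨Submodule.Quotient.mk w, rfl⟩
  obtain ⟨σ, hσ⟩ := Module.projective_lifting_property π'' LinearMap.id hπ''
  let s : P → W → Prop := fun x w => π w = x ∧ (Submodule.Quotient.mk w : Wb) = σ ((1 : R ⧸ I) ⊗ₜ x)
  have hex : ∀ x, ∃ w, s x w := fun x => by
    obtain ⟨w, rfl⟩ := hπ x
    obtain ⟨v, hv⟩ := Submodule.Quotient.mk_surjective _ (σ ((1 : R ⧸ I) ⊗ₜ π w))
    have h1 : (1 : R ⧸ I) ⊗ₜ[R] π v = (1 : R ⧸ I) ⊗ₜ[R] π w := by
      have := DFunLike.congr_fun hσ ((1 : R ⧸ I) ⊗ₜ π w)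
      rw [LinearMap.comp_apply, ← hv, LinearMap.id_apply] at this
      exact this
    have h2 : π w - π v ∈ I • (⊤ : Submodule R P) := by
      rw [← Submodule.Quotient.mk_eq_zero, ← (TensorProduct.quotTensorEquivQuotSMul P I).symm.map_eq_zero_iff,
        TensorProduct.quotTensorEquivQuotSMul_symm_mk, tmul_sub, h1, sub_self]
    rw [show (⊤ : Submodule R P) = Submodule.map π ⊤ by rw [Submodule.map_top, LinearMap.range_eq_top.2 hπ],
      ← Submodule.map_smul''] at h2
    obtain ⟨u, hu, huv⟩ := h2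
    refine ⟨v + u, ⟨?_, ?_⟩⟩
    · rw [map_add, huv, add_sub_cancel]
    · rw [← hv, Submodule.Quotient.eq]
      simpa using hu
  have huniq : ∀ x w w', s x w → s x w' → w = w' := fun x w w' h h' => by
    rw [← sub_eq_zero]
    refine hinj _ ((Submodule.Quotient.eq _).1 (h.2.trans h'.2.symm)) ?_
    rw [map_sub, h.1, h'.1, sub_self]
  choose t ht using hex
  let l : P →ₗ[R] W :=
    { toFun := t
      map_add' := fun x y => huniq _ _ _ (ht _) ⟨by rw [map_add, (ht x).1, (ht y).1], by
        rw [Submodule.Quotient.mk_add, (ht x).2, (ht y).2, tmul_add, map_add]⟩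
      map_smul' := fun r x => huniq _ _ _ (ht _) ⟨by simp [(ht x).1], by
        rw [RingHom.id_apply, Submodule.Quotient.mk_smul, (ht x).2, tmul_smul, ← algebraMap_smul (R ⧸ I) r,
          ← map_smul, algebraMap_smul]⟩ }
  refine ⟨LinearMap.fst R E P ∘ₗ W.subtype ∘ₗ l, LinearMap.ext fun x => ?_⟩
  show q (t x).1.1 = f x
  rw [(hW _).1 (t x).2]
  exact congrArg f (ht x).1

/-- Projectivity over a domain from projectivity after a finite extension and lifting along a
nonzero ideal. -/
theorem projective_of_domain [IsDomain R] [Module.Flat R P] (S : Type u) [CommRing S] [Algebra R S]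
    [Module.Projective S (S ⊗[R] P)] (φ : S →ₗ[R] R) (hφ : φ 1 ≠ 0) (h : Lift P (Ideal.span {φ 1})) :
    Module.Projective R P := by
  classical
  set c := φ 1 with hc
  let g : (P →₀ R) →ₗ[R] P := Finsupp.linearCombination R id
  have hg : Function.Surjective g := fun x =>
    ⟨Finsupp.single x 1, (Finsupp.linearCombination_single R 1 x).trans (one_smul R x)⟩
  have hPtf : ∀ x y : P, c • x = c • y → x = y := fun x y hxy =>
    (Module.Flat.isSMulRegular_of_isRegular (M := P) (IsRegular.of_ne_zero hφ)) hxy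
  let G : S ⊗[R] (P →₀ R) →ₗ[S] S ⊗[R] P := g.baseChange S
  obtain ⟨σ, hσ⟩ := Module.projective_lifting_property G LinearMap.id (LinearMap.lTensor_surjective S hg)
  let h₀ : P →ₗ[R] (P →₀ R) :=
    (TensorProduct.lid R (P →₀ R)).toLinearMap ∘ₗ φ.rTensor (P →₀ R) ∘ₗ σ.restrictScalars R ∘ₗ TensorProduct.mk R S P 1
  have hgh : ∀ x, g (h₀ x) = c • x := fun x => by
    have key : ∀ z : S ⊗[R] (P →₀ R), g (TensorProduct.lid R _ (φ.rTensor _ z)) = TensorProduct.lid R P (φ.rTensor P (G z)) := by
      intro z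
      induction z using TensorProduct.induction_on with
      | zero => simp
      | tmul a b => simp [G]
      | add a b ha hb => simp only [map_add, ha, hb]
    show g (TensorProduct.lid R _ (φ.rTensor _ (σ ((1 : S) ⊗ₜ x)))) = c • x
    rw [key, ← LinearMap.comp_apply G σ, hσ, LinearMap.id_apply, retraction_smul]
  -- section modulo `c`
  let cF : Submodule R (P →₀ R) := Ideal.span {c} • ⊤
  let cP : Submodule R P := Ideal.span {c} • ⊤
  have hle : cF ≤ cP.comap g := by
    rw [← Submodule.map_le_iff_le_comap, Submodule.map_smul'']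
    exact smul_mono_right _ le_top
  let gb : ((P →₀ R) ⧸ cF) →ₗ[R] P ⧸ cP := cF.mapQ cP g hle
  obtain ⟨τ, hτ⟩ := h ((P →₀ R) ⧸ cF) (P ⧸ cP) gb (fun y => by
      obtain ⟨x, rfl⟩ := cP.mkQ_surjective y
      obtain ⟨z, rfl⟩ := hg x
      exact ⟨Submodule.Quotient.mk z, rfl⟩) (by
      intro a _ r hr
      obtain ⟨a, rfl⟩ := cF.mkQ_surjective a
      rw [← map_smul, Submodule.mkQ_apply, Submodule.Quotient.mk_eq_zero]
      exact Submodule.smul_mem_smul hr trivial) cP.mkQ
  have hy : ∀ x, ∃ y : P →₀ R, (Submodule.Quotient.mk y : (P →₀ R) ⧸ cF) = τ x ∧ g y = x := by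
    intro x
    obtain ⟨y, hy⟩ := Submodule.Quotient.mk_surjective _ (τ x)
    have h1 : g y - x ∈ cP := by
      rw [← Submodule.Quotient.eq]
      have := DFunLike.congr_fun hτ x
      rw [LinearMap.comp_apply, ← hy] at this
      exact this
    rw [show cP = Submodule.map g cF by rw [Submodule.map_smul'', Submodule.map_top, LinearMap.range_eq_top.2 hg]] at h1
    obtain ⟨z, hz, hzy⟩ := h1
    refine ⟨y - z, ?_, by rw [map_sub, hzy, sub_sub_cancel]⟩
    rw [← hy, Submodule.Quotient.eq]
    simpa using hz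
  choose y hy₁ hy₂ using hy
  let ψ : (P →₀ R) →ₗ[R] (P →₀ R) := Finsupp.linearCombination R y
  have hψg : ∀ z, g (ψ z) = g z := fun z => by
    induction z using Finsupp.induction_linear with
    | zero => simp
    | add a b ha hb => simp [ha, hb]
    | single a b => simp [ψ, g, hy₂]
  have hψτ : ∀ z, (Submodule.Quotient.mk (ψ z) : (P →₀ R) ⧸ cF) = τ (g z) := fun z => by
    induction z using Finsupp.induction_linear with
    | zero => simp
    | add a b ha hb => simp [ha, hb, Submodule.Quotient.mk_add]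
    | single a b => simp [ψ, g, Submodule.Quotient.mk_smul, hy₁]
  have hdiv : ∀ x, ∃ v : P →₀ R, c • v = ψ (h₀ x) := fun x => by
    have h1 : ψ (h₀ x) ∈ cF := by
      rw [← Submodule.Quotient.mk_eq_zero, hψτ, hgh, map_smul, ← hy₁ x, ← Submodule.Quotient.mk_smul,
        Submodule.Quotient.mk_eq_zero]
      exact Submodule.smul_mem_smul (Ideal.mem_span_singleton_self c) trivial
    rw [show cF = Ideal.span {c} • (⊤ : Submodule R (P →₀ R)) from rfl, Submodule.ideal_span_singleton_smul] at h1
    obtain ⟨v, -, hv⟩ := Submodule.mem_smul_pointwise_iff_exists _ _ _ |>.1 h1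
    exact ⟨v, hv⟩
  choose v hv using hdiv
  have hFtf : ∀ a b : P →₀ R, c • a = c • b → a = b := fun a b hab => by
    ext i
    exact mul_left_cancel₀ hφ (by simpa using DFunLike.congr_fun hab i)
  let s : P →ₗ[R] (P →₀ R) :=
    { toFun := v
      map_add' := fun x x' => hFtf _ _ (by rw [hv, smul_add, hv, hv, map_add, map_add])
      map_smul' := fun r x => hFtf _ _ (by rw [hv, RingHom.id_apply, smul_comm, hv, map_smul, map_smul]) }
  refine Module.Projective.of_split s g (LinearMap.ext fun x => hPtf _ _ ?_)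
  show c • g (v x) = c • x
  rw [← map_smul, hv, hψg, hgh]

/-- Descent of projectivity along a finite injective map. -/
theorem projective_of_finite_injective [IsNoetherianRing R] (S : Type u) [CommRing S] [Algebra R S]
    [Module.Finite R S] (hinj : Function.Injective (algebraMap R S)) [Module.Projective S (S ⊗[R] P)] :
    Module.Projective R P := by
  haveI : Module.Flat R P := flat_of_finite_injective P S hinj
  suffices ∀ I : Ideal R, Lift P I from (this ⊥).projective
  intro I
  induction I using WellFoundedGT.induction with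
  | _ I ih =>
    by_cases htop : I = ⊤
    · exact htop ▸ Lift.top P
    by_cases hp : I.IsPrime
    · haveI := hp
      obtain ⟨Q, -, hQ, hQI⟩ := Ideal.exists_ideal_over_prime_of_isIntegral I (⊥ : Ideal S) (by
          intro r hr
          rw [Ideal.mem_comap, Ideal.mem_bot] at hr
          rw [hinj (hr.trans (map_zero _).symm)]
          exact I.zero_mem)
      haveI := hQ
      let f : R ⧸ I →+* S ⧸ Q := Ideal.quotientMap Q (algebraMap R S) hQI.ge
      letI := f.toAlgebra
      haveI : IsScalarTower R (R ⧸ I) (S ⧸ Q) := IsScalarTower.of_algebraMap_eq fun r => rfl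
      haveI : Module.Finite (R ⧸ I) (S ⧸ Q) := Module.Finite.of_restrictScalars_finite R _ _
      have hfinj : Function.Injective (algebraMap (R ⧸ I) (S ⧸ Q)) := Ideal.quotientMap_injective' hQI.le
      obtain ⟨φ, hφ⟩ := exists_functional (S ⧸ Q) hfinj
      haveI : Module.Projective (S ⧸ Q) ((S ⧸ Q) ⊗[R] P) :=
        Module.Projective.of_equiv (TensorProduct.AlgebraTensorModule.cancelBaseChange R S (S ⧸ Q) (S ⧸ Q) P)
      haveI : Module.Projective (S ⧸ Q) ((S ⧸ Q) ⊗[R ⧸ I] ((R ⧸ I) ⊗[R] P)) :=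
        Module.Projective.of_equiv (TensorProduct.AlgebraTensorModule.cancelBaseChange R (R ⧸ I) (S ⧸ Q) (S ⧸ Q) P).symm
      have hlift : Lift (R := R ⧸ I) ((R ⧸ I) ⊗[R] P) (Ideal.span {φ 1}) := by
        intro E E'' _ _ _ _ q hq hk g
        letI := Module.compHom E (algebraMap R (R ⧸ I))
        letI := Module.compHom E'' (algebraMap R (R ⧸ I))
        haveI : IsScalarTower R (R ⧸ I) E := IsScalarTower.of_algebraMap_smul fun r x => rfl
        haveI : IsScalarTower R (R ⧸ I) E'' := IsScalarTower.of_algebraMap_smul fun r x => rfl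
        have hlt : I < (Ideal.span {φ 1}).comap (Ideal.Quotient.mk I) := by
          refine lt_of_le_of_ne (fun x hx => ?_) fun e => hφ ?_
          · rw [Ideal.mem_comap, Ideal.Quotient.eq_zero_iff_mem.2 hx]; exact zero_mem _
          · rw [← Ideal.span_singleton_eq_bot, ← Ideal.map_comap_of_surjective _ Ideal.Quotient.mk_surjective (Ideal.span {φ 1}),
              ← e, Ideal.map_quotient_self]
        obtain ⟨l, hl⟩ := ih _ hlt E E'' (q.restrictScalars R) hq
          (fun a ha r hr => hk a ha _ hr) (g.restrictScalars R ∘ₗ TensorProduct.mk R (R ⧸ I) P 1)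
        refine ⟨l.liftBaseChange (R ⧸ I), TensorProduct.AlgebraTensorModule.ext fun a x => ?_⟩
        rw [LinearMap.comp_apply, LinearMap.liftBaseChange_tmul, map_smul,
          show q (l x) = g ((1 : R ⧸ I) ⊗ₜ x) from DFunLike.congr_fun hl x, ← map_smul, smul_tmul', smul_eq_mul, mul_one]
      haveI := projective_of_domain ((R ⧸ I) ⊗[R] P) (S ⧸ Q) φ hφ hlift
      exact lift_of_projective P I
    · obtain ⟨a, ha, b, hb, hab⟩ : ∃ a, a ∉ I ∧ ∃ b, b ∉ I ∧ a * b ∈ I := by
        by_contra! h
        exact hp ⟨htop, fun {a b} hab => or_iff_not_imp_left.2 fun ha => by_contra fun hb => h a ha b hb hab⟩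
      refine ((ih (I ⊔ Ideal.span {a}) (SetLike.lt_iff_le_and_exists.2 ⟨le_sup_left, a,
        Ideal.mem_sup_right (Ideal.mem_span_singleton_self a), ha⟩)).mul P
        (ih (I ⊔ Ideal.span {b}) (SetLike.lt_iff_le_and_exists.2 ⟨le_sup_left, b,
          Ideal.mem_sup_right (Ideal.mem_span_singleton_self b), hb⟩))).mono P ?_
      rw [Ideal.sup_mul, Ideal.mul_sup, Ideal.mul_sup, Ideal.span_singleton_mul_span_singleton]
      exact sup_le (sup_le Ideal.mul_le_right Ideal.mul_le_left)
        (sup_le Ideal.mul_le_right ((Ideal.span_singleton_le_iff_mem _).2 hab))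

end Groth.Agent.CAlgFinInj
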